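/-
Certificate data of a coset enumeration.
-/
import Cfsg.Agent.Lib.CosetEnum.Fi22Z.Data

set_option autoImplicit false
set_option maxRecDepth 1000000

namespace CfsgLib.CosetEnum.Fi22Z

open CfsgLib.CosetEnum

/-- Completion of the rows from 0. -/
def rows0 : List (List ℕ) := [[0x16c00000002, 0x16d00001002, 0x16e00002002, 0x16f00003002, 0x17000004002, 0x17100005002, 0x17f00006002, 0x17300007002, 0x17400008002]]

theorem rows0_ok : okRows data table 384 0 rows0 = true := by decide +kernel

theorem rows0_len : rows0.length = 1 := by decide +kernel

end CfsgLib.CosetEnum.Fi22Z
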